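import Groth.Agent.FEtRank.Count
import Groth.Agent.EtTensorStalk.Basic
import Groth.Agent.EtPushStalk.Unit
import Groth.Agent.ShriekLQF.Support
import Groth.Agent.ShriekColim.Local
import Mathlib

/-!
Sections of the pullback of an etale sheaf along a universally submersive morphism with connected fibres.
-/

set_option autoImplicit false
set_option backward.isDefEq.respectTransparency false
set_option linter.style.haveILetI false

universe u

open CategoryTheory CategoryTheory.Limits AlgebraicGeometry Opposite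

namespace Groth.Agent.EtConnFib

open Groth.Agent.EtTensorStalk

variable {X S : Scheme.{u}} (f : X ⟶ S) (F : EtCoh.Ab S)

/-- the map to the final object -/
noncomputable def toTop (V : S.Etale) : V ⟶ EtCoh.top S := MorphismProperty.Over.homMk V.hom (Category.comp_id _)

theorem toTop_eq {V : S.Etale} (a : V ⟶ EtCoh.top S) : a = toTop V :=
  MorphismProperty.Over.Hom.ext ((Category.comp_id _).symm.trans (MorphismProperty.Over.w a))

/-- the unit on sections -/
noncomputable abbrev unitSect (V : S.Etale) (σ : EtCoh.sect F V) : EtCoh.sect ((EtCoh.pull f).obj F) ((EtCoh.bc f).obj V) :=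
  ((EtCoh.pullPushAdj f).unit.app F).hom.app (op V) σ

variable (t : EtCoh.sect ((EtCoh.pull f).obj F) ((EtCoh.bc f).obj (EtCoh.top S)))

/-- difference between `t` and a pulled back section -/
noncomputable def dif (V : S.Etale) (σ : EtCoh.sect F V) : EtCoh.sect ((EtCoh.pull f).obj F) ((EtCoh.bc f).obj V) :=
  ((EtCoh.pull f).obj F).obj.map ((EtCoh.bc f).map (toTop V)).op t -
    unitSect f F V σ

/-- where they differ -/
noncomputable def bad (V : S.Etale) (σ : EtCoh.sect F V) : Set ((EtCoh.bc f).obj V).left :=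
  EtShriek.sectSupp ((EtCoh.pull f).obj F) ((EtCoh.bc f).obj V) (dif f F t V σ)

theorem dif_map {V W : S.Etale} (g : W ⟶ V) (σ : EtCoh.sect F V) :
    dif f F t W (F.obj.map g.op σ) = ((EtCoh.pull f).obj F).obj.map ((EtCoh.bc f).map g).op (dif f F t V σ) := by
  rw [dif, dif, map_sub]
  congr 1
  · rw [← ConcreteCategory.comp_apply, ← Functor.map_comp, ← op_comp, ← Functor.map_comp, toTop_eq (g ≫ toTop V)]
  · exact NatTrans.naturality_apply ((EtCoh.pullPushAdj f).unit.app F).hom g.op σ

theorem bad_map {V W : S.Etale} (g : W ⟶ V) (σ : EtCoh.sect F V) :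
    bad f F t W (F.obj.map g.op σ) = ((EtCoh.bc f).map g).left ⁻¹' bad f F t V σ := by
  rw [bad, dif_map, Groth.Agent.ShriekLQF.sectSupp_map]
  rfl

variable {Ω : Type u} [Field Ω] [IsAlgClosed Ω] (η : Spec (CommRingCat.of Ω) ⟶ S)

/-- the fibre inside `X ×_S V` -/
noncomputable def mP (V : S.Etale) (v : Over.mk η ⟶ (Scheme.Etale.forget S).obj V) :
    pullback f η ⟶ ((EtCoh.bc f).obj V).left :=
  pullback.lift (pullback.snd f η ≫ v.left) (pullback.fst f η) (by
    rw [Category.assoc, pullback.condition]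
    exact congrArg (pullback.snd f η ≫ ·) (Over.w v))

theorem mP_map {V W : S.Etale} (g : W ⟶ V) (w : Over.mk η ⟶ (Scheme.Etale.forget S).obj W) :
    mP f η W w ≫ ((EtCoh.bc f).map g).left = mP f η V ((Scheme.pointSmallEtale η).fiber.map g w) := by
  apply pullback.hom_ext
  · refine (Category.assoc _ _ _).trans ?_
    refine (congrArg (mP f η W w ≫ ·) (EtCoh.isPullback_bc_map f g).w).trans ?_
    refine (Category.assoc _ _ _).symm.trans ?_
    rw [mP, mP, pullback.lift_fst, pullback.lift_fst, Category.assoc]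
    rfl
  · refine (Category.assoc _ _ _).trans ?_
    have e1 : ((EtCoh.bc f).map g).left ≫ pullback.snd V.hom f = pullback.snd W.hom f := by
      dsimp [EtCoh.bc]
      exact pullback.lift_snd _ _ _
    rw [e1, mP, mP, pullback.lift_snd, pullback.lift_snd]

/-- representatives of stalk elements -/
structure Rep : Type (u + 1) where
  /-- neighbourhood -/
  V : S.Etale
  /-- point -/
  v : Over.mk η ⟶ (Scheme.Etale.forget S).obj V
  /-- section -/
  σ : EtCoh.sect F V

variable {F η}

/-- the stalk element -/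
noncomputable def Rep.germ (A : Rep F η) : fib η F.obj :=
  gm η F.obj A.V A.v A.σ

/-- agreement at a point of the fibre -/
def Rep.InL (A : Rep F η) (x : ↥(pullback f η)) : Prop := mP f η A.V A.v x ∉ bad f F t A.V A.σ

theorem inL_map (A : Rep F η) {W : S.Etale} (g : W ⟶ A.V) (w : Over.mk η ⟶ (Scheme.Etale.forget S).obj W)
    (hw : (Scheme.pointSmallEtale η).fiber.map g w = A.v) (x : ↥(pullback f η)) :
    (Rep.mk W w (F.obj.map g.op A.σ)).InL f t x ↔ A.InL f t x := by
  rw [Rep.InL, Rep.InL, bad_map, Set.mem_preimage, ← hw, ← mP_map, Scheme.Hom.comp_apply]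

theorem exists_common_rep (A B : Rep F η) :
    ∃ (W : S.Etale) (w : Over.mk η ⟶ (Scheme.Etale.forget S).obj W) (s s' : EtCoh.sect F W),
      gm η F.obj W w s = A.germ ∧ gm η F.obj W w s' = B.germ ∧
      (∀ x, (Rep.mk W w s).InL f t x ↔ A.InL f t x) ∧ (∀ x, (Rep.mk W w s').InL f t x ↔ B.InL f t x) := by
  obtain ⟨W, w, g, g', hg, hg'⟩ := exists_common η A.v B.v
  exact ⟨W, w, F.obj.map g.op A.σ, F.obj.map g'.op B.σ, by rw [gm_map, hg]; rfl, by rw [gm_map, hg']; rfl,
    inL_map f t A g w hg, inL_map f t B g' w hg'⟩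

theorem inL_congr {A B : Rep F η} (h : A.germ = B.germ) (x : ↥(pullback f η)) : A.InL f t x ↔ B.InL f t x := by
  obtain ⟨W, w, s, s', hs, hs', hA, hB⟩ := exists_common_rep f t A B
  rw [← hA, ← hB]
  obtain ⟨Z, g, z, hz, he⟩ := (GrothendieckTopology.Point.toPresheafFiber_eq_iff' _ _ _ _ _).mp ((hs.trans h).trans hs'.symm)
  rw [← inL_map f t (Rep.mk W w s) g z hz x, ← inL_map f t (Rep.mk W w s') g z hz x]
  exact iff_of_eq (congrArg (fun r => (Rep.mk Z z r).InL f t x) he)

theorem germ_eq_of_inL {A B : Rep F η} {x : ↥(pullback f η)} (ha : A.InL f t x) (hb : B.InL f t x) :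
    A.germ = B.germ := by
  obtain ⟨W, w, s, s', hs, hs', hA, hB⟩ := exists_common_rep f t A B
  rw [← hs, ← hs', ← sub_eq_zero, gm, gm, ← map_sub, Groth.Agent.EtPushStalk.germ_eq_zero_iff]
  intro hsupp
  have h2 : mP f η W w x ∈ EtShriek.sectSupp ((EtCoh.pull f).obj F) ((EtCoh.bc f).obj W)
      (((EtCoh.pullPushAdj f).unit.app F).hom.app (op W) (s - s')) := by
    rw [Groth.Agent.EtPushStalk.mem_sectSupp_unit_iff]
    suffices e0 : pullback.fst W.hom f (mP f η W w x) = w.left (default : Spec (CommRingCat.of Ω)) by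
      rw [e0]; exact hsupp
    have e : mP f η W w ≫ pullback.fst W.hom f = pullback.snd f η ≫ w.left := pullback.lift_fst _ _ _
    refine (Scheme.Hom.comp_apply (mP f η W w) (pullback.fst W.hom f) x).symm.trans ?_
    rw [e, Scheme.Hom.comp_apply, Subsingleton.elim (α := Spec (CommRingCat.of Ω)) (pullback.snd f η x) default]
    rfl
  have e2 : ((EtCoh.pullPushAdj f).unit.app F).hom.app (op W) (s - s') = dif f F t W s' + -dif f F t W s := by
    rw [map_sub, dif, dif]; abel
  rw [e2] at h2
  rcases Groth.Agent.ShriekLQF.sectSupp_add_subset _ _ _ _ h2 with h3 | h3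
  · exact (hB x).mpr hb h3
  · rw [Groth.Agent.ShriekLQF.sectSupp_neg] at h3
    exact (hA x).mpr ha h3

omit [IsAlgClosed Ω] in
theorem isOpen_inL (A : Rep F η) : IsOpen {x | A.InL f t x} :=
  (Groth.Agent.EtSect.isClosed_sectSupp _ _).isOpen_compl.preimage (mP f η A.V A.v).continuous

variable (η) in
theorem exists_inL (x : ↥(pullback f η)) : ∃ A : Rep F η, A.InL f t x := by
  let x' : X := pullback.fst f η x
  obtain ⟨K, _, _, ξ, -, hξ⟩ := Groth.Agent.EtStalk.covers_all (X := X) x'
  let T₀ := EtCoh.top S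
  let v₀ : Over.mk (ξ ≫ f) ⟶ (Scheme.Etale.forget S).obj T₀ := Over.homMk (ξ ≫ f) (Category.comp_id _)
  obtain ⟨γ, hγ, hγg⟩ := exists_pullGerm ξ f (ξ ≫ f) rfl F
  obtain ⟨z, hz⟩ := hγ.2 (gm ξ ((EtCoh.pull f).obj F).obj ((EtCoh.bc f).obj T₀)
    (Groth.Agent.EtPushStalk.up f ξ v₀) t)
  obtain ⟨V, v', σ, rfl⟩ := (Scheme.pointSmallEtale (ξ ≫ f)).toPresheafFiber_jointly_surjective (P := F.obj) z
  let v : Over.mk (ξ ≫ f) ⟶ (Scheme.Etale.forget S).obj V := v'
  have hq0 := (hγg V v σ).symm.trans hz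
  let u := Groth.Agent.EtPushStalk.up f ξ v
  have hu : (Scheme.pointSmallEtale ξ).fiber.map ((EtCoh.bc f).map (toTop V)) u = Groth.Agent.EtPushStalk.up f ξ v₀ := by
    refine (Groth.Agent.EtPushStalk.up_map f ξ (toTop V) v).trans (congrArg _ (Over.OverMorphism.ext ?_))
    exact Over.w v
  let q : ((EtCoh.bc f).obj V).left := (u.left : Spec (CommRingCat.of K) ⟶ _) (default : Spec (CommRingCat.of K))
  have hq : q ∉ bad f F t V σ := by
    refine (Groth.Agent.EtPushStalk.germ_eq_zero_iff _ ξ _ u (dif f F t V σ)).mp ?_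
    rw [dif, map_sub, sub_eq_zero]
    refine Eq.trans ?_ hq0.symm
    rw [← hu]
    exact gm_map ξ ((EtCoh.pull f).obj F).obj _ _ t
  have hqx : pullback.snd V.hom f q = x' := by
    have e : u.left ≫ pullback.snd V.hom f = ξ := Over.w u
    refine (Scheme.Hom.comp_apply u.left (pullback.snd V.hom f) (default : Spec (CommRingCat.of K))).symm.trans ?_
    rw [e]
    exact hξ
  -- the point of the fibre of `V` under `q` and `x`
  let P := pullback f η
  haveI := V.prop
  obtain ⟨r, hrx, hrq⟩ := Scheme.Pullback.exists_preimage_pullback (f := pullback.fst f η)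
    (g := pullback.snd V.hom f) x q hqx.symm
  let R := pullback (pullback.fst f η) (pullback.snd V.hom f)
  let e : R ⟶ pullback V.hom η := pullback.lift (pullback.snd _ _ ≫ pullback.fst V.hom f)
    (pullback.fst _ _ ≫ pullback.snd f η) (by
      rw [Category.assoc, Category.assoc, pullback.condition, ← pullback.condition (f := f) (g := η),
        pullback.condition_assoc])
  let E : (Spec (CommRingCat.of Ω)).Etale := Scheme.Etale.mk (pullback.snd V.hom η)
  obtain ⟨l, hl⟩ := Scheme.pointSmallEtaleFiberObjToPreimage_surjective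
    (𝟙 (Spec (CommRingCat.of Ω))) (s₀ := default) (Subsingleton.elim (α := Spec (CommRingCat.of Ω)) _ _) E
    ⟨e r, Subsingleton.elim (α := Spec (CommRingCat.of Ω)) _ _⟩
  let l' : Over.mk (𝟙 (Spec (CommRingCat.of Ω))) ⟶ Over.mk (pullback.snd V.hom η) := l
  let s' : Spec (CommRingCat.of Ω) ⟶ pullback V.hom η := l'.left
  have hs' : s' ≫ pullback.snd V.hom η = 𝟙 _ := Over.w l'
  have hs'r : s' (default : Spec (CommRingCat.of Ω)) = e r := congrArg Subtype.val hl
  let vη : Over.mk η ⟶ (Scheme.Etale.forget S).obj V := Over.homMk (s' ≫ pullback.fst V.hom η) (by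
    change (s' ≫ pullback.fst V.hom η) ≫ V.hom = η
    rw [Category.assoc, pullback.condition, reassoc_of% hs'])
  refine ⟨⟨V, vη, σ⟩, ?_⟩
  show mP f η V vη x ∉ bad f F t V σ
  suffices mP f η V vη x = q by rw [this]; exact hq
  obtain ⟨z, hz1, -⟩ := Scheme.Pullback.exists_preimage_pullback (f := e) (g := s') r default hs'r.symm
  let k : pullback e s' ⟶ P := pullback.fst e s' ≫ pullback.fst _ _
  have hk : k ≫ pullback.snd f η = pullback.snd e s' := by
    have : pullback.fst e s' ≫ e ≫ pullback.snd V.hom η = pullback.snd e s' := by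
      rw [pullback.condition_assoc, hs', Category.comp_id]
    rw [← this, pullback.lift_snd, Category.assoc]
  have hm : k ≫ mP f η V vη = pullback.fst e s' ≫ pullback.snd _ _ := by
    apply pullback.hom_ext
    · rw [Category.assoc, mP, pullback.lift_fst, reassoc_of% hk, Category.assoc]
      show pullback.snd e s' ≫ s' ≫ pullback.fst V.hom η = _
      rw [← pullback.condition_assoc, pullback.lift_fst]
    · rw [Category.assoc, mP, pullback.lift_snd, Category.assoc, Category.assoc, pullback.condition]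
  have hkz : k z = x := by rw [Scheme.Hom.comp_apply, hz1, hrx]
  rw [← hkz, ← Scheme.Hom.comp_apply, hm, Scheme.Hom.comp_apply, hz1]; exact hrq

theorem inL_of_connected [ConnectedSpace ↥(pullback f η)] (A : Rep F η) {x₀ : ↥(pullback f η)}
    (h : A.InL f t x₀) (x : ↥(pullback f η)) : A.InL f t x := by
  have hcl : IsClosed {x | A.InL f t x} := by
    refine ⟨isOpen_iff_forall_mem_open.mpr fun y hy => ?_⟩
    obtain ⟨B, hB⟩ := exists_inL f t η y
    refine ⟨{x | B.InL f t x}, fun z hz hzA => hy ?_, isOpen_inL f t B, hB⟩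
    exact (inL_congr f t (germ_eq_of_inL f t hzA hz) y).mpr hB
  have := (isClopen_iff.mp ⟨hcl, isOpen_inL f t A⟩).resolve_left (Set.nonempty_iff_ne_empty.mp ⟨x₀, h⟩)
  exact this.ge (Set.mem_univ x)

omit η in
theorem bijective_unit (hsub : ∀ (S' : Scheme.{u}) (g : S' ⟶ S), Topology.IsQuotientMap (pullback.snd f g))
    (hc : ∀ (Ω : Type u) [Field Ω] [IsAlgClosed Ω] (s : Spec (CommRingCat.of Ω) ⟶ S), ConnectedSpace ↥(pullback f s))
    (F : EtCoh.Ab S) :
    Function.Bijective (((EtCoh.pullPushAdj f).unit.app F).hom.app (op (EtCoh.top S))) := by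
  have hsurj : ∀ V : S.Etale, Function.Surjective (pullback.fst V.hom f : ((EtCoh.bc f).obj V).left ⟶ V.left) := by
    intro V y
    obtain ⟨z, hz⟩ := (hsub V.left V.hom).surjective y
    refine ⟨(pullbackSymmetry f V.hom).hom z, ?_⟩
    refine (Scheme.Hom.comp_apply (pullbackSymmetry f V.hom).hom (pullback.fst V.hom f) z).symm.trans ?_
    rwa [pullbackSymmetry_hom_comp_fst]
  have hinj : ∀ V : S.Etale, Function.Injective (((EtCoh.pullPushAdj f).unit.app F).hom.app (op V)) := by
    intro V
    rw [injective_iff_map_eq_zero]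
    intro σ hσ
    refine Groth.Agent.EtSect.eq_zero_of_cover F σ fun y => ?_
    refine (Groth.Agent.EtSect.mem_iff F σ y).mp fun hy => ?_
    obtain ⟨p, rfl⟩ := hsurj V y
    have h2 := (Groth.Agent.EtPushStalk.mem_sectSupp_unit_iff f F V σ p).mpr hy
    rw [hσ, Groth.Agent.ShriekLQF.sectSupp_zero] at h2
    exact h2
  refine ⟨hinj _, fun t => ?_⟩
  have hloc : ∀ s : S, ∃ (W : S.Etale) (σ : EtCoh.sect F W), s ∈ Set.range W.hom ∧ dif f F t W σ = 0 := by
    intro s
    obtain ⟨Ω, _, _, η, hη⟩ := Groth.Agent.FEtRank.exists_geomPt s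
    haveI := hc Ω η
    obtain ⟨x₀⟩ := (inferInstance : Nonempty ↥(pullback f η))
    obtain ⟨A, hA⟩ := exists_inL f t η x₀
    let U := ((EtCoh.bc f).obj A.V).left
    let pV : U ⟶ A.V.left := pullback.fst A.V.hom f
    let L : Set U := (bad f F t A.V A.σ)ᶜ
    have hsat : pV ⁻¹' (pV '' L) = L := by
      refine Set.Subset.antisymm ?_ (Set.subset_preimage_image _ _)
      rintro q ⟨q₀, hq₀, hqq⟩
      obtain ⟨K, _, _, θ, hθ⟩ := Groth.Agent.FEtRank.exists_geomPt (pV q)
      let η' := θ ≫ A.V.hom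
      haveI := hc K η'
      let v' : Over.mk η' ⟶ (Scheme.Etale.forget S).obj A.V := Over.homMk θ rfl
      let B : Rep F η' := ⟨A.V, v', A.σ⟩
      have hlift : ∀ p : U, pV p = pV q → ∃ x, mP f η' A.V v' x = p := by
        intro p hp
        obtain ⟨w, hw1, -⟩ := Scheme.Pullback.exists_preimage_pullback (f := pV) (g := θ) p _
          (hp.trans hθ.symm)
        refine ⟨pullback.lift (pullback.fst pV θ ≫ pullback.snd A.V.hom f) (pullback.snd pV θ) ?_ w, ?_⟩
        · rw [Category.assoc, ← pullback.condition, pullback.condition_assoc]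
        · rw [← Scheme.Hom.comp_apply]
          have e : pullback.lift (pullback.fst pV θ ≫ pullback.snd A.V.hom f) (pullback.snd pV θ) (by
              rw [Category.assoc, ← pullback.condition, pullback.condition_assoc]) ≫ mP f η' A.V v' =
              pullback.fst pV θ := by
            apply pullback.hom_ext
            · rw [Category.assoc, mP, pullback.lift_fst, pullback.lift_snd_assoc]
              exact pullback.condition.symm
            · rw [Category.assoc, mP, pullback.lift_snd, pullback.lift_fst]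
          rw [e, hw1]
      obtain ⟨x₁, hx₁⟩ := hlift q₀ hqq
      obtain ⟨x₂, hx₂⟩ := hlift q rfl
      have := inL_of_connected f t B (x₀ := x₁) (show mP f η' A.V v' x₁ ∉ _ by rw [hx₁]; exact hq₀) x₂
      rw [← hx₂]
      exact this
    have hO : IsOpen (pV '' L) := by
      have hq := hsub A.V.left A.V.hom
      refine hq.isOpen_preimage.mp ?_
      have e : pullback.snd f A.V.hom = (pullbackSymmetry f A.V.hom).hom ≫ pV := (pullbackSymmetry_hom_comp_fst _ _).symm
      have hpre : (pullback.snd f A.V.hom : _ → A.V.left) ⁻¹' (pV '' L) =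
          (pullbackSymmetry f A.V.hom).hom ⁻¹' (pV ⁻¹' (pV '' L)) := by rw [e]; rfl
      refine (congrArg IsOpen (hpre.trans (congrArg _ hsat))).mpr ?_
      exact (Groth.Agent.EtSect.isClosed_sectSupp _ _).isOpen_compl.preimage (pullbackSymmetry f A.V.hom).hom.continuous
    let O : A.V.left.Opens := ⟨_, hO⟩
    haveI := A.V.prop
    let W : S.Etale := Scheme.Etale.mk (Scheme.Opens.ι O ≫ A.V.hom)
    let g : W ⟶ A.V := MorphismProperty.Over.homMk (Scheme.Opens.ι O) rfl
    refine ⟨W, F.obj.map g.op A.σ, ?_, ?_⟩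
    · have hvO : pV (mP f η A.V A.v x₀) ∈ pV '' L := ⟨_, hA, rfl⟩
      obtain ⟨o, ho⟩ := (Scheme.Opens.range_ι O).ge hvO
      refine ⟨o, ?_⟩
      show (Scheme.Opens.ι O ≫ A.V.hom) o = s
      rw [Scheme.Hom.comp_apply, ho, ← Scheme.Hom.comp_apply, ← Scheme.Hom.comp_apply]
      have e : mP f η A.V A.v ≫ pV ≫ A.V.hom = pullback.snd f η ≫ η := by
        rw [mP, pullback.lift_fst_assoc, Category.assoc]
        exact congrArg (pullback.snd f η ≫ ·) (Over.w A.v)
      refine (congrArg (fun m => (m : pullback f η ⟶ S) x₀) e).trans ?_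
      rw [Scheme.Hom.comp_apply, ← hη]
      exact congrArg _ (Subsingleton.elim (α := Spec (CommRingCat.of Ω)) _ _)
    · rw [dif_map]
      refine (Groth.Agent.EtSect.map_eq_zero_iff _ _ _).mpr ?_
      rintro _ ⟨p, rfl⟩
      let p' : ((EtCoh.bc f).obj W).left := p
      have h1 : pV (((EtCoh.bc f).map g).left p') ∈ pV '' L := by
        rw [← Scheme.Hom.comp_apply]
        rw [show ((EtCoh.bc f).map g).left ≫ pV = pullback.fst W.hom f ≫ Scheme.Opens.ι O from (EtCoh.isPullback_bc_map f g).w]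
        rw [Scheme.Hom.comp_apply]
        exact (Scheme.Opens.range_ι O).le ⟨_, rfl⟩
      exact hsat.le h1
  choose W σ hW hσ using hloc
  obtain ⟨g, hg⟩ := Groth.Agent.ShriekColim.exists_amalg F W (fun s => toTop (W s)) (fun s => ⟨s, hW s⟩) σ
    (fun i k T a b hab => by
      refine hinj T ?_
      have h1 : dif f F t T (F.obj.map a.op (σ i)) = 0 := by rw [dif_map, hσ, map_zero]
      have h2 : dif f F t T (F.obj.map b.op (σ k)) = 0 := by rw [dif_map, hσ, map_zero]
      rw [dif, sub_eq_zero] at h1 h2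
      exact h1.symm.trans h2)
  refine ⟨g, ?_⟩
  show unitSect f F (EtCoh.top S) g = (t : EtCoh.sect ((EtCoh.pull f).obj F) ((EtCoh.bc f).obj (EtCoh.top S)))
  rw [← sub_eq_zero]
  refine Groth.Agent.EtSect.eq_zero_of_cover _ _ fun p => ?_
  obtain ⟨w, hw⟩ := hW (pullback.fst (EtCoh.top S).hom f p)
  obtain ⟨p', hp', -⟩ := Scheme.exists_preimage_of_isPullback (EtCoh.isPullback_bc_map f (toTop (W _))) p w hw.symm
  refine ⟨_, (EtCoh.bc f).map (toTop (W _)), ⟨p', hp'⟩, ?_⟩
  rw [map_sub, ← neg_sub, neg_eq_zero]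
  refine Eq.trans ?_ (hσ (pullback.fst (EtCoh.top S).hom f p))
  rw [dif]
  congr 1
  refine (NatTrans.naturality_apply ((EtCoh.pullPushAdj f).unit.app F).hom (toTop _).op g).symm.trans ?_
  exact congrArg _ (hg _)

end Groth.Agent.EtConnFib
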